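import Groth.Agent.SepFam.Residue
import Groth.Agent.QC.Basic
import Groth.Agent.InjFibre.Stalk

/-!
# Affine pieces of a base change along a free algebra, and vanishing ideals
-/

universe u

set_option autoImplicit false
set_option linter.style.haveILetI false
set_option backward.isDefEq.respectTransparency false

open CategoryTheory CategoryTheory.Limits AlgebraicGeometry TopologicalSpace Opposite TensorProduct

namespace Groth.Agent.RedImage

set_option maxHeartbeats 1000000 in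
/-- A basis of the base ring extension gives one of the functions on an affine piece of the pullback. -/
theorem exists_piece_basis {X Y A' B' : Scheme.{u}} {p : X ⟶ Y} {a : A' ⟶ Y} {b : B' ⟶ X} {m : B' ⟶ A'}
    (hpb : IsPullback b m p a) {V : Y.Opens} (hV : IsAffineOpen V) {U : X.Opens} (hU : IsAffineOpen U)
    (hUV : U ≤ p ⁻¹ᵁ V) {O : A'.Opens} (hO : IsAffineOpen O) (hOV : O ≤ a ⁻¹ᵁ V) {σ : Type u}
    (e : letI := (a.appLE V O hOV).hom.toAlgebra
         Module.Basis σ Γ(Y, V) Γ(A', O)) :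
    IsAffineOpen (b ⁻¹ᵁ U ⊓ m ⁻¹ᵁ O) ∧
      (letI := (b.appLE U (b ⁻¹ᵁ U ⊓ m ⁻¹ᵁ O) inf_le_left).hom.toAlgebra
       ∃ e' : Module.Basis σ Γ(X, U) Γ(B', b ⁻¹ᵁ U ⊓ m ⁻¹ᵁ O),
        ∀ l, e' l = (m.appLE O (b ⁻¹ᵁ U ⊓ m ⁻¹ᵁ O) inf_le_right).hom (e l)) := by
  let W : B'.Opens := b ⁻¹ᵁ U ⊓ m ⁻¹ᵁ O
  have hW : IsAffineOpen W := by
    haveI : IsAffine _ := hV
    haveI : IsAffine _ := hU
    haveI : IsAffine _ := hO
    exact .of_isIso (Scheme.Hom.isPullback_resLE hpb hOV hUV (rfl : W = _)).isoPullback.hom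
  have hP := (isIso_pushoutSection_iff hpb hOV hUV (rfl : W = _)).1
    (isIso_pushoutSection_of_isAffineOpen hpb hOV hUV rfl hV hO hU)
  let A := Γ(Y, V)
  let B := Γ(X, U)
  let C := Γ(A', O)
  let B'' := Γ(B', W)
  letI : Algebra A C := (a.appLE V O hOV).hom.toAlgebra
  letI : Algebra A B := (p.appLE V U hUV).hom.toAlgebra
  letI : Algebra B B'' := (b.appLE U W inf_le_left).hom.toAlgebra
  letI : Algebra C B'' := (m.appLE O W inf_le_right).hom.toAlgebra
  letI : Algebra A B'' := ((algebraMap B B'').comp (algebraMap A B)).toAlgebra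
  haveI : IsScalarTower A B B'' := IsScalarTower.of_algebraMap_eq fun _ => rfl
  haveI : IsScalarTower A C B'' := IsScalarTower.of_algebraMap_eq fun r => congr($(hP.w).hom r)
  haveI : Algebra.IsPushout A B C B'' := CommRingCat.isPushout_iff_isPushout.1 hP
  refine ⟨hW, (Algebra.TensorProduct.basis B e).map (Algebra.IsPushout.equiv A B C B'').toLinearEquiv, fun l => ?_⟩
  rw [Module.Basis.map_apply, Algebra.TensorProduct.basis_apply]
  change Algebra.IsPushout.equiv A B C B'' (1 ⊗ₜ e l) = _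
  rw [Algebra.IsPushout.equiv_tmul, map_one, one_mul]
  rfl

/-- The reduced closed subscheme on the closure of images of reduced schemes is cut out by the kernels. -/
theorem mem_vanishingIdeal_closure_iff {X : Scheme.{u}} {ι : Type u} {Z : ι → Scheme.{u}} (g : ∀ i, Z i ⟶ X)
    [∀ i, AlgebraicGeometry.IsReduced (Z i)] (W : X.affineOpens) (a : Γ(X, W.1)) :
    a ∈ (Scheme.IdealSheafData.vanishingIdeal (Closeds.closure (⋃ i, Set.range (g i)))).ideal W ↔
      ∀ i, (g i).app W.1 a = 0 := by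
  rw [Scheme.IdealSheafData.vanishingIdeal_ideal, PrimeSpectrum.mem_vanishingIdeal]
  have hb : ∀ y : PrimeSpectrum Γ(X, W.1), a ∈ y.asIdeal ↔ W.2.fromSpec y ∉ X.basicOpen a := fun y => by
    obtain ⟨h1, h2⟩ := InjFibre.primeIdealOf_fromSpec W.2 y
    rw [WeakAssLib.mem_primeIdealOf W.2 h1 a, h2, not_not]
  constructor
  · intro h i
    rw [← basicOpen_eq_bot_iff, ← Scheme.preimage_basicOpen, eq_bot_iff]
    intro z hz
    obtain ⟨y, hy⟩ : g i z ∈ Set.range W.2.fromSpec := by rw [W.2.range_fromSpec]; exact X.basicOpen_le a hz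
    refine (hb y).1 (h y ?_) (hy ▸ hz)
    change W.2.fromSpec y ∈ closure (⋃ i, Set.range (g i))
    rw [hy]
    exact subset_closure (Set.mem_iUnion.2 ⟨i, z, rfl⟩)
  · intro h y hy
    rw [hb y]
    intro hya
    obtain ⟨_, h1, h2⟩ := mem_closure_iff.1 (show W.2.fromSpec y ∈ closure (⋃ i, Set.range (g i)) from hy) _
      (X.basicOpen a).2 hya
    obtain ⟨i, z, rfl⟩ := Set.mem_iUnion.1 h2
    have h3 : z ∈ g i ⁻¹ᵁ X.basicOpen a := h1
    rw [Scheme.preimage_basicOpen, h i, Scheme.basicOpen_zero] at h3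
    exact h3

end Groth.Agent.RedImage
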